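/- The total space of an invertible module with its fibre coordinates (helper91). -/
import Groth.Agent.SymAlg.Sections
import Groth.Agent.RelSpecH.Gamma
import Groth.Agent.PicAux.QCoh
import Mathlib.LinearAlgebra.SymmetricAlgebra.Basic

set_option autoImplicit false

universe u

open CategoryTheory CategoryTheory.Limits AlgebraicGeometry Opposite TopologicalSpace Polynomial

noncomputable section

namespace Groth.GitLin

open Groth.PicAux (Gen)

variable {Y : Scheme.{u}} (M : Y.Modules) [M.IsQuasicoherent]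

/-- The projection of the total space. -/
abbrev proj : (Groth.SymAlg.symQC M).spec ⟶ Y := (Groth.SymAlg.symQC M).π

/-- The fibre coordinate given by a section. -/
def coordOf (W : Y.Opens) (e : Γ(M, W)) : Γ((Groth.SymAlg.symQC M).spec, proj M ⁻¹ᵁ W) :=
  (haveI := Groth.RelSpecH.isIso_gammaMap (Groth.SymAlg.symQC M)
   inv ((Groth.SymAlg.symQC M).gammaMap.app (op W))).hom
    (Groth.QCohMod.toB (Groth.SymAlg.symQC M) ((Groth.SymAlg.jSym M).app W e))

theorem gammaMap_coordOf (W : Y.Opens) (e : Γ(M, W)) :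
    ((Groth.SymAlg.symQC M).gammaMap.app (op W)).hom (coordOf M W e) =
      Groth.QCohMod.toB (Groth.SymAlg.symQC M) ((Groth.SymAlg.jSym M).app W e) := by
  haveI := Groth.RelSpecH.isIso_gammaMap (Groth.SymAlg.symQC M)
  rw [coordOf, ← RingHom.comp_apply, ← CommRingCat.hom_comp, IsIso.inv_hom_id, CommRingCat.hom_id,
    RingHom.id_apply]

theorem gammaMap_injective (W : Y.Opens) :
    Function.Injective ((Groth.SymAlg.symQC M).gammaMap.app (op W)).hom := by
  haveI := Groth.RelSpecH.isIso_gammaMap (Groth.SymAlg.symQC M)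
  exact ((ConcreteCategory.isIso_iff_bijective
    ((Groth.SymAlg.symQC M).gammaMap.app (op W))).1 inferInstance).1

theorem res_coordOf {W' W : Y.Opens} (h : W' ≤ W) (e : Γ(M, W)) :
    (Groth.SymAlg.symQC M).spec.presheaf.map (homOfLE ((proj M).preimage_mono h)).op (coordOf M W e) =
      coordOf M W' (Groth.PicAux.res M h e) := by
  apply gammaMap_injective M W'
  rw [gammaMap_coordOf]
  have h1 := congr($((Groth.SymAlg.symQC M).gammaMap.naturality (homOfLE h).op).hom (coordOf M W e))
  refine h1.trans ?_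
  change Groth.QCohMod.bres (Groth.SymAlg.symQC M) h
    (((Groth.SymAlg.symQC M).gammaMap.app (op W)).hom (coordOf M W e)) = _
  rw [gammaMap_coordOf, ← Groth.QCohMod.toB_res]
  exact congrArg (Groth.QCohMod.toB _) (Groth.PicAux.app_res _ h e).symm

theorem gammaMap_str {U : Y.Opens} (hU : IsAffineOpen U) (r : Γ(Y, U)) :
    ((Groth.SymAlg.symQC M).gammaMap.app (op U)).hom ((proj M).app U r) =
      Groth.QCohMod.bstr (Groth.SymAlg.symQC M) U r := by
  rw [RelSpec.QCAlg.gammaMap_app (U := U) (hU := hU), RelSpec.QCAlg.gammaAff]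
  have h : (proj M).app U ≫ ((Groth.SymAlg.symQC M).ι U hU).appLE (proj M ⁻¹ᵁ U) ⊤
      ((Groth.SymAlg.symQC M).top_le_preimage U hU) ≫ (Scheme.ΓSpecIso _).hom =
      (Groth.SymAlg.symQC M).str.app (op U) := by
    rw [Scheme.Hom.app_eq_appLE, Scheme.Hom.appLE_comp_appLE_assoc]
    simp only [RelSpec.QCAlg.ι_π, Scheme.Hom.comp_appLE, IsAffineOpen.fromSpec_app_self,
      Category.assoc, Scheme.Hom.map_appLE_assoc]
    exact ((Scheme.ΓSpecIso_inv_naturality_assoc ((Groth.SymAlg.symQC M).str.app (op U))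
      (Scheme.ΓSpecIso ((Groth.SymAlg.symQC M).presheaf.obj (op U))).hom).symm.trans (by simp))
  exact congr($(h).hom r)

theorem coordOf_smul_affine {U : Y.Opens} (hU : IsAffineOpen U) (r : Γ(Y, U)) (e : Γ(M, U)) :
    coordOf M U (r • e) = (proj M).app U r * coordOf M U e := by
  apply gammaMap_injective M U
  rw [map_mul, gammaMap_str M hU, gammaMap_coordOf, gammaMap_coordOf, Scheme.Modules.Hom.app_smul,
    Groth.QCohMod.toB_smul]

theorem coordOf_smul (W : Y.Opens) (r : Γ(Y, W)) (e : Γ(M, W)) :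
    coordOf M W (r • e) = (proj M).app W r * coordOf M W e := by
  let I := {V : Y.Opens // IsAffineOpen V ∧ V ≤ W}
  refine (TopCat.Sheaf.eq_of_locally_eq' (Groth.SymAlg.symQC M).spec.sheaf (fun V : I => proj M ⁻¹ᵁ V.1)
    (proj M ⁻¹ᵁ W) (fun V => homOfLE ((proj M).preimage_mono V.2.2)) ?_ _ _ fun V => ?_)
  · intro v hv
    obtain ⟨_, ⟨V, hV, rfl⟩, hvV, hVW⟩ :=
      Y.isBasis_affineOpens.exists_subset_of_mem_open (show proj M v ∈ W from hv) W.2
    exact Opens.mem_iSup.mpr ⟨⟨V, hV, hVW⟩, hvV⟩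
  · change ((Groth.SymAlg.symQC M).spec.presheaf.map _) (coordOf M W (r • e)) =
      ((Groth.SymAlg.symQC M).spec.presheaf.map (homOfLE ((proj M).preimage_mono V.2.2)).op)
        ((proj M).app W r * coordOf M W e)
    rw [map_mul, res_coordOf, Groth.PicAux.res_smul, coordOf_smul_affine M V.2.1, res_coordOf]
    · congr 1
      exact congr($(((proj M).naturality (homOfLE V.2.2).op)).hom r)
    all_goals exact V.2.2

/-- Over an affine open with a generator, the functions are polynomials in the coordinate. -/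
theorem bijective_eval_coordOf {U : Y.Opens} (hU : IsAffineOpen U) {e : Γ(M, U)} (he : Gen M U e) :
    Function.Bijective (Polynomial.eval₂RingHom ((proj M).app U).hom (coordOf M U e)) := by
  haveI := Groth.RelSpecH.isIso_gammaMap (Groth.SymAlg.symQC M)
  have hg : Function.Bijective ((Groth.SymAlg.symQC M).gammaMap.app (op U)).hom :=
    (ConcreteCategory.isIso_iff_bijective ((Groth.SymAlg.symQC M).gammaMap.app (op U))).1 inferInstance
  have hs := (Groth.SymAlg.secEquiv M U hU).bijective
  let L : Γ(Y, U) →ₗ[Γ(Y, U)] Γ(M, U) := LinearMap.toSpanSingleton _ _ e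
  have hL : Function.Bijective L := by
    have := he U le_rfl
    simpa [L, LinearMap.toSpanSingleton] using this
  let eL := LinearEquiv.ofBijective L hL
  let p : Γ(Y, U)[X] →ₐ[Γ(Y, U)] SymmetricAlgebra Γ(Y, U) Γ(M, U) :=
    Polynomial.aeval (SymmetricAlgebra.ι Γ(Y, U) Γ(M, U) e)
  let q : SymmetricAlgebra Γ(Y, U) Γ(M, U) →ₐ[Γ(Y, U)] Γ(Y, U)[X] :=
    SymmetricAlgebra.lift ((LinearMap.toSpanSingleton _ _ (X : Γ(Y, U)[X])).comp eL.symm.toLinearMap)
  have hqe : q (SymmetricAlgebra.ι Γ(Y, U) Γ(M, U) e) = X := by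
    have : eL.symm e = 1 := eL.symm_apply_eq.2 (one_smul _ e).symm
    simp [q, this]
  have hqp : q.comp p = AlgHom.id _ _ := Polynomial.algHom_ext (by simpa [p] using hqe)
  have hpq : p.comp q = AlgHom.id _ _ := by
    refine SymmetricAlgebra.algHom_ext (LinearMap.ext fun m => ?_)
    obtain ⟨r, rfl⟩ := hL.2 m
    have : L r = r • e := rfl
    simp [this, p, map_smul, hqe]
  have hp : Function.Bijective p := (AlgEquiv.ofAlgHom p q hpq hqp).bijective
  have key : (Groth.SymAlg.secEquiv M U hU).toRingHom.comp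
      (((Groth.SymAlg.symQC M).gammaMap.app (op U)).hom.comp
        (Polynomial.eval₂RingHom ((proj M).app U).hom (coordOf M U e))) = p.toRingHom := by
    refine Polynomial.ringHom_ext (fun r => ?_) ?_
    · simp [p, gammaMap_str M hU, Groth.SymAlg.secEquiv_str]
    · simp only [p, AlgHom.toRingHom_eq_coe, RingHom.coe_coe, RingHom.comp_apply, aeval_X,
        Polynomial.coe_eval₂RingHom, eval₂_X]
      rw [gammaMap_coordOf]
      exact Groth.SymAlg.secEquiv_jSym M hU e
  have hcomp : Function.Bijective ((Groth.SymAlg.secEquiv M U hU) ∘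
      ((Groth.SymAlg.symQC M).gammaMap.app (op U)).hom ∘
        (Polynomial.eval₂RingHom ((proj M).app U).hom (coordOf M U e))) := by
    convert hp using 1
    exact congrArg DFunLike.coe key
  exact ((hg.of_comp_iff' _).1 ((hs.of_comp_iff' _).1 hcomp))

/-- Over an affine open with a generator, every point has a point over it where the coordinate does
not vanish. -/
theorem exists_point {U : Y.Opens} (hU : IsAffineOpen U) {e : Γ(M, U)} (he : Gen M U e) {y : Y}
    (hy : y ∈ U) :
    ∃ v : (Groth.SymAlg.symQC M).spec, proj M v = y ∧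
      v ∈ (Groth.SymAlg.symQC M).spec.basicOpen (coordOf M U e) := by
  let E := RingEquiv.ofBijective _ (bijective_eval_coordOf M hU he)
  let q : Γ((Groth.SymAlg.symQC M).spec, proj M ⁻¹ᵁ U) ⟶ Γ(Y, U) :=
    CommRingCat.ofHom ((Polynomial.evalRingHom 1).comp E.symm.toRingHom)
  have hV := hU.preimage (proj M)
  have h1 : (proj M).app U ≫ q = 𝟙 _ := by
    ext r
    have : E.symm ((proj M).app U r) = Polynomial.C r := E.symm_apply_eq.2 (by simp [E])
    simp [q, this]
  have h2 : q (coordOf M U e) = 1 := by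
    have : E.symm (coordOf M U e) = X := E.symm_apply_eq.2 (by simp [E])
    simp [q, this]
  let s := Spec.map q ≫ hV.fromSpec
  have hs : s ≫ proj M = hU.fromSpec := by
    rw [Category.assoc, ← hU.SpecMap_appLE_fromSpec (proj M) hV le_rfl, ← Spec.map_comp_assoc,
      ← Scheme.Hom.app_eq_appLE, h1, Spec.map_id, Category.id_comp]
  obtain ⟨p, hp⟩ : ∃ p, hU.fromSpec p = y := by
    have : y ∈ Set.range hU.fromSpec := by rw [hU.range_fromSpec]; exact hy
    exact this
  refine ⟨s p, ?_, ?_⟩
  · rw [← Scheme.Hom.comp_apply, hs, hp]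
  · rw [← Scheme.Hom.mem_preimage]
    rw [Scheme.Hom.comp_preimage, hV.fromSpec_preimage_basicOpen]
    change PrimeSpectrum.comap q.hom p ∈ PrimeSpectrum.basicOpen (coordOf M U e)
    rw [PrimeSpectrum.mem_basicOpen]
    intro hmem
    have hmem' : q (coordOf M U e) ∈ p.asIdeal := hmem
    rw [h2] at hmem'
    exact p.isPrime.ne_top ((Ideal.eq_top_iff_one _).2 hmem')

end Groth.GitLin
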