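/- The linearised line bundle pulled back along an invariant morphism (helper91). -/
import Groth.Prelude.Def_GLinSh
import Groth.Agent.GitLin.SymTotal
import Groth.Agent.AlgGrp2.Basic
import Groth.Agent.PicAux.Tensor
import Groth.Agent.PicAux.GenLocusAffine

set_option autoImplicit false

universe u

open CategoryTheory CategoryTheory.Limits MonoidalCategory CartesianMonoidalCategory MonObj
  AlgebraicGeometry Opposite TopologicalSpace Polynomial

noncomputable section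

namespace Groth.GitLin

open Groth.PicAux (Gen resX)

section Pb

variable {Z W Y : Scheme.{u}}

/-- Pull-back of functions. -/
def pb (f : Z ⟶ Y) {U : Y.Opens} (O : Z.Opens) (h : O ≤ f ⁻¹ᵁ U) : Γ(Y, U) →+* Γ(Z, O) :=
  (f.appLE U O h).hom

lemma pb_congr {f f' : Z ⟶ Y} (e : f = f') {U : Y.Opens} {O : Z.Opens} (h : O ≤ f ⁻¹ᵁ U)
    (h' : O ≤ f' ⁻¹ᵁ U) (c : Γ(Y, U)) : pb f O h c = pb f' O h' c := by
  subst e; rfl

lemma pb_res (f : Z ⟶ Y) {U U' : Y.Opens} {O : Z.Opens} (hU : U' ≤ U) (h : O ≤ f ⁻¹ᵁ U') (c : Γ(Y, U)) :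
    pb f O h (resX Y hU c) = pb f O (h.trans (f.preimage_mono hU)) c :=
  congr($(f.map_appLE h (homOfLE hU).op) c)

lemma res_pb (f : Z ⟶ Y) {U : Y.Opens} {O O' : Z.Opens} (hO : O' ≤ O) (h : O ≤ f ⁻¹ᵁ U) (c : Γ(Y, U)) :
    resX Z hO (pb f O h c) = pb f O' (hO.trans h) c :=
  congr($(f.appLE_map h (homOfLE hO).op) c)

lemma pb_pb (g : W ⟶ Z) (f : Z ⟶ Y) {U : Y.Opens} {O : Z.Opens} {O' : W.Opens} (h : O ≤ f ⁻¹ᵁ U)
    (h' : O' ≤ g ⁻¹ᵁ O) (c : Γ(Y, U)) :
    pb g O' h' (pb f O h c) = pb (g ≫ f) O' (h'.trans (g.preimage_mono h)) c :=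
  congr($(Scheme.Hom.appLE_comp_appLE g f U O O' h h') c)

lemma pb_app (f : Z ⟶ Y) (U : Y.Opens) (c : Γ(Y, U)) : f.app U c = pb f (f ⁻¹ᵁ U) le_rfl c := by
  rw [pb, ← Scheme.Hom.app_eq_appLE]

end Pb

variable {S : Scheme.{u}} {G X Y : Over S} [GrpObj G] (φ : X ⟶ Y) (M : Y.left.Modules)
  [M.IsQuasicoherent]

/-- Pull-back of a coordinate along a map to the total space. -/
abbrev tot : Over S := Over.mk (pullback.fst φ.left (proj M) ≫ X.hom)

/-- The projection. -/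
abbrev totπ : tot φ M ⟶ X := Over.homMk (pullback.fst φ.left (proj M))

/-- The map to the total space over `Y`. -/
abbrev totρ : (tot φ M).left ⟶ (Groth.SymAlg.symQC M).spec := pullback.snd φ.left (proj M)

lemma tot_cond : (totπ φ M).left ≫ φ.left = totρ φ M ≫ proj M := pullback.condition

lemma tot_ext {T : Over S} {u v : T ⟶ tot φ M} (h₁ : u ≫ totπ φ M = v ≫ totπ φ M)
    (h₂ : u.left ≫ totρ φ M = v.left ≫ totρ φ M) : u = v :=
  Over.OverMorphism.ext (pullback.hom_ext congr(($h₁).left) h₂)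

/-- Lift to the total space. -/
def totLift {T : Over S} (x : T ⟶ X) (r : T.left ⟶ (Groth.SymAlg.symQC M).spec)
    (h : x.left ≫ φ.left = r ≫ proj M) : T ⟶ tot φ M :=
  Over.homMk (pullback.lift x.left r h)
    (by change _ ≫ _ ≫ X.hom = _; rw [pullback.lift_fst_assoc, Over.w x])

@[simp] lemma totLift_π {T : Over S} (x : T ⟶ X) (r : T.left ⟶ (Groth.SymAlg.symQC M).spec)
    (h : x.left ≫ φ.left = r ≫ proj M) : totLift φ M x r h ≫ totπ φ M = x :=
  Over.OverMorphism.ext (pullback.lift_fst _ _ _)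

@[simp] lemma totLift_ρ {T : Over S} (x : T ⟶ X) (r : T.left ⟶ (Groth.SymAlg.symQC M).spec)
    (h : x.left ≫ φ.left = r ≫ proj M) : (totLift φ M x r h).left ≫ totρ φ M = r :=
  pullback.lift_snd _ _ _

lemma act_cond (a : AlgGrp.Action G X) (hφ : GIT.IsInvariant a φ) :
    ((G ◁ totπ φ M) ≫ a.act).left ≫ φ.left = ((snd G (tot φ M)).left ≫ totρ φ M) ≫ proj M := by
  rw [Category.assoc, ← tot_cond, ← Over.comp_left, ← Over.comp_left, ← Over.comp_left,
    Category.assoc, show a.act ≫ φ = snd G X ≫ φ from hφ, whiskerLeft_snd_assoc]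

/-- The lifted action: the pull-back is acted on through `X` only. -/
def totAct (a : AlgGrp.Action G X) (hφ : GIT.IsInvariant a φ) : AlgGrp.Action G (tot φ M) where
  act := totLift φ M _ _ (act_cond φ M a hφ)
  one_act := by
    refine tot_ext φ M ?_ ?_
    · rw [Category.assoc, totLift_π, ← whisker_exchange_assoc, a.one_act]
      simp
    · rw [Over.comp_left, Category.assoc, totLift_ρ, ← Over.comp_left_assoc, whiskerRight_snd,
        leftUnitor_hom]
  mul_act := by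
    refine tot_ext φ M ?_ ?_
    · simp only [Category.assoc, totLift_π, ← whisker_exchange_assoc, a.mul_act,
        associator_naturality_right_assoc]
      rw [← MonoidalCategory.whiskerLeft_comp_assoc, ← MonoidalCategory.whiskerLeft_comp_assoc,
        totLift_π]
    · simp only [Over.comp_left, Category.assoc, totLift_ρ]
      have hh : ∀ {A B C : Over S} (f : A ⟶ B) (g : B ⟶ C) {Z : Scheme.{u}} (h : C.left ⟶ Z),
          f.left ≫ g.left ≫ h = (f ≫ g).left ≫ h := fun f g _ h => by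
        rw [Over.comp_left, Category.assoc]
      rw [hh, whiskerRight_snd, hh (G ◁ _), whiskerLeft_snd, Over.comp_left,
        Category.assoc, totLift_ρ, hh, hh, Category.assoc, associator_hom_snd_snd]

variable {φ M}

lemma totAct_π (a : AlgGrp.Action G X) (hφ : GIT.IsInvariant a φ) :
    (totAct φ M a hφ).act ≫ totπ φ M = (G ◁ totπ φ M) ≫ a.act :=
  totLift_π φ M _ _ _

lemma totAct_ρ (a : AlgGrp.Action G X) (hφ : GIT.IsInvariant a φ) :
    (totAct φ M a hφ).act.left ≫ totρ φ M = (snd G (tot φ M)).left ≫ totρ φ M :=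
  totLift_ρ φ M _ _ _

lemma le_ρ {U : Y.left.Opens} {W : X.left.Opens} (hW : W ≤ φ.left ⁻¹ᵁ U) :
    (totπ φ M).left ⁻¹ᵁ W ≤ totρ φ M ⁻¹ᵁ (proj M ⁻¹ᵁ U) := by
  rw [← Scheme.Hom.comp_preimage, ← tot_cond, Scheme.Hom.comp_preimage]
  exact Scheme.Hom.preimage_mono _ hW

/-- The pulled back coordinate. -/
def totCoord {U : Y.left.Opens} (e : Γ(M, U)) {W : X.left.Opens} (hW : W ≤ φ.left ⁻¹ᵁ U) :
    Γ((tot φ M).left, (totπ φ M).left ⁻¹ᵁ W) :=
  pb (totρ φ M) _ (le_ρ hW) (coordOf M U e)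

variable (φ M) in
/-- The admissible coordinates. -/
def totChart (W : X.left.Opens) : Set Γ((tot φ M).left, (totπ φ M).left ⁻¹ᵁ W) :=
  {y | ∃ (U : Y.left.Opens) (e : Γ(M, U)) (hW : W ≤ φ.left ⁻¹ᵁ U),
    IsAffineOpen U ∧ Gen M U e ∧ y = totCoord e hW}

/-- Two coordinates seen through the same map differ by a unit from the base. -/
lemma exists_unit_pb {Z : Scheme.{u}} (r : Z ⟶ (Groth.SymAlg.symQC M).spec) {U U' : Y.left.Opens}
    {e : Γ(M, U)} {e' : Γ(M, U')} (he : Gen M U e) (he' : Gen M U' e') :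
    ∃ c : Γ(Y.left, U ⊓ U'), IsUnit c ∧ ∀ (O : Z.Opens) (h : O ≤ r ⁻¹ᵁ (proj M ⁻¹ᵁ U))
      (h' : O ≤ r ⁻¹ᵁ (proj M ⁻¹ᵁ U')) (h'' : O ≤ (r ≫ proj M) ⁻¹ᵁ (U ⊓ U')),
      pb r O h' (coordOf M U' e') = pb (r ≫ proj M) O h'' c * pb r O h (coordOf M U e) := by
  obtain ⟨c, hc⟩ := (he.res inf_le_left).exists_unit (he'.res (inf_le_right : U ⊓ U' ≤ U'))
  refine ⟨c, c.isUnit, fun O h h' h'' => ?_⟩
  have h1 := congrArg (coordOf M (U ⊓ U')) hc
  rw [← res_coordOf, coordOf_smul, ← res_coordOf, pb_app] at h1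
  have h2 := congrArg (pb r O (U := proj M ⁻¹ᵁ (U ⊓ U')) h'') h1
  rw [map_mul, pb_pb] at h2
  exact (pb_res r _ h'' _).symm.trans (h2.trans (congrArg (pb (r ≫ proj M) O h'' c * ·) (pb_res r _ h'' _)))

lemma totChart_linear (W W' : X.left.Opens) (y : Γ((tot φ M).left, (totπ φ M).left ⁻¹ᵁ W))
    (y' : Γ((tot φ M).left, (totπ φ M).left ⁻¹ᵁ W')) (hy : y ∈ totChart φ M W)
    (hy' : y' ∈ totChart φ M W') :
    ∃ c : Γ(X.left, W ⊓ W'), IsUnit c ∧
      GLinSh.res (totπ φ M) inf_le_right y' =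
        (totπ φ M).left.app (W ⊓ W') c * GLinSh.res (totπ φ M) inf_le_left y := by
  obtain ⟨U, e, hW, -, he, rfl⟩ := hy
  obtain ⟨U', e', hW', -, he', rfl⟩ := hy'
  obtain ⟨c, hc, hpb⟩ := exists_unit_pb (totρ φ M) he he'
  have hle : W ⊓ W' ≤ φ.left ⁻¹ᵁ (U ⊓ U') := le_inf (inf_le_left.trans hW) (inf_le_right.trans hW')
  refine ⟨pb φ.left _ hle c, hc.map _, ?_⟩
  rw [pb_app, pb_pb]
  have key := hpb ((totπ φ M).left ⁻¹ᵁ (W ⊓ W')) ((le_ρ hle).trans
    (Scheme.Hom.preimage_mono _ (Scheme.Hom.preimage_mono _ inf_le_left)))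
    ((le_ρ hle).trans (Scheme.Hom.preimage_mono _ (Scheme.Hom.preimage_mono _ inf_le_right)))
    (le_ρ hle)
  refine (res_pb _ _ _ _).trans (key.trans ?_)
  exact congrArg₂ (· * ·) (pb_congr (tot_cond φ M).symm _ _ _) (res_pb _ _ _ _).symm

lemma totChart_coord [IsAffineHom φ.left] (W : X.left.Opens)
    (y : Γ((tot φ M).left, (totπ φ M).left ⁻¹ᵁ W)) (hy : y ∈ totChart φ M W) :
    GLinSh.IsFibreCoord (totπ φ M) W y := by
  obtain ⟨U, e, hW, hU, he, rfl⟩ := hy
  intro W' hW' hle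
  have H : IsPullback (totπ φ M).left (totρ φ M) φ.left (proj M) := IsPullback.of_hasPullback _ _
  have hUV : IsAffineOpen (proj M ⁻¹ᵁ U) := hU.preimage _
  have hW'U := hle.trans hW
  have hwe : (totπ φ M).left ⁻¹ᵁ W' = (totπ φ M).left ⁻¹ᵁ W' ⊓ totρ φ M ⁻¹ᵁ (proj M ⁻¹ᵁ U) :=
    (inf_eq_left.2 (le_ρ hW'U)).symm
  have hP := (isIso_pushoutSection_iff H le_rfl hW'U hwe).mp
    (isIso_pushoutSection_of_isAffineOpen H le_rfl hW'U hwe hU hUV hW')
  let E := RingEquiv.ofBijective _ (bijective_eval_coordOf M hU he)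
  let j : Γ((Groth.SymAlg.symQC M).spec, proj M ⁻¹ᵁ U) ⟶ CommRingCat.of Γ(X.left, W')[X] :=
    CommRingCat.ofHom ((Polynomial.mapRingHom (φ.left.appLE U W' hW'U).hom).comp E.symm.toRingHom)
  have hE1 : ∀ r, E.symm ((proj M).appLE U (proj M ⁻¹ᵁ U) le_rfl r) = Polynomial.C r := fun r =>
    E.symm_apply_eq.2 (by simp [E, Scheme.Hom.app_eq_appLE])
  have hE2 : E.symm (coordOf M U e) = Polynomial.X := E.symm_apply_eq.2 (by simp [E])
  obtain ⟨d, hd1, hd2⟩ : ∃ d : Γ((tot φ M).left, (totπ φ M).left ⁻¹ᵁ W') ⟶ CommRingCat.of Γ(X.left, W')[X],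
      (totπ φ M).left.appLE W' _ le_rfl ≫ d = CommRingCat.ofHom Polynomial.C ∧
      (totρ φ M).appLE (proj M ⁻¹ᵁ U) _ (le_ρ hW'U) ≫ d = j := by
    refine ⟨hP.desc (CommRingCat.ofHom Polynomial.C) j ?_, hP.inl_desc _ _ _, hP.inr_desc _ _ _⟩
    ext r
    simp [j, hE1]
  set g := Polynomial.eval₂RingHom ((totπ φ M).left.app W').hom
    (GLinSh.res (totπ φ M) hle (totCoord e hW)) with hg
  have hyres : GLinSh.res (totπ φ M) hle (totCoord e hW) =
      pb (totρ φ M) _ (le_ρ hW'U) (coordOf M U e) := res_pb _ _ _ _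
  have h1 : d.hom.comp g = RingHom.id _ := by
    refine Polynomial.ringHom_ext (fun r => ?_) ?_
    · have := congr($(hd1) r)
      simp [g, Scheme.Hom.app_eq_appLE] at this ⊢
      exact this
    · have := congr($(hd2) (coordOf M U e))
      simp [g, hyres, pb, j, hE2] at this ⊢
      exact this
  have h2 : d ≫ CommRingCat.ofHom g = 𝟙 _ := by
    refine hP.hom_ext ?_ ?_
    · rw [reassoc_of% hd1, Category.comp_id]
      ext r
      simp [g, Scheme.Hom.app_eq_appLE]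
    · rw [reassoc_of% hd2, Category.comp_id]
      ext z
      obtain ⟨p, rfl⟩ := E.surjective z
      have e1 : (g.comp (Polynomial.mapRingHom (φ.left.appLE U W' hW'U).hom)) =
          ((totρ φ M).appLE (proj M ⁻¹ᵁ U) _ (le_ρ hW'U)).hom.comp E.toRingHom := by
        refine Polynomial.ringHom_ext (fun r => ?_) ?_
        · simp [g, E, Scheme.Hom.app_eq_appLE]
          exact congr($(hP.w).hom r)
        · simp [g, E, hyres, pb]
      simpa [j] using congr($e1 p)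
  exact ⟨Function.LeftInverse.injective (g := d.hom) fun p => congr($h1 p),
    Function.RightInverse.surjective (g := d.hom) fun z => congr($(h2).hom z)⟩

end Groth.GitLin
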