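/- The linearised pull-back bundle and its invariant sections (helper91). -/
import Groth.Agent.GitLin.Pullback

set_option autoImplicit false

universe u

open CategoryTheory CategoryTheory.Limits MonoidalCategory CartesianMonoidalCategory MonObj
  AlgebraicGeometry Opposite TopologicalSpace

noncomputable section

namespace Groth.GitLin

open Groth.PicAux (Gen resX powSec gsec)

variable {S : Scheme.{u}} {G X Y : Over S} [GrpObj G] (φ : X ⟶ Y) [IsAffineHom φ.left]
  (M : Y.left.Modules) [M.IsQuasicoherent] (hM : PicF.IsInvertible M)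
  (a : AlgGrp.Action G X) (hφ : GIT.IsInvariant a φ)

/-- The pulled back bundle with the trivial linearisation. -/
def bundle : GLinSh.LinBun G a where
  V := tot φ M
  π := totπ φ M
  atlas :=
    { affine := MorphismProperty.pullback_fst (P := @IsAffineHom) _ _ inferInstance
      chart := totChart φ M
      cover := fun x => by
        obtain ⟨U, e, hU, hx, he⟩ := Groth.PicAux.exists_affine_gen_mem hM (φ.left x)
        exact ⟨φ.left ⁻¹ᵁ U, hx, _, U, e, le_rfl, hU, he, rfl⟩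
      coord := fun W y hy => totChart_coord W y hy
      linear := fun W W' y y' hy hy' => totChart_linear W W' y y' hy hy' }
  lift := totAct φ M a hφ
  lift_π := totAct_π a hφ
  lift_linear := by
    intro W W' y y' hy hy'
    obtain ⟨U, e, hW, -, he, rfl⟩ := hy
    obtain ⟨U', e', hW', -, he', rfl⟩ := hy'
    obtain ⟨c, -, hpb⟩ := exists_unit_pb ((snd G (tot φ M)).left ≫ totρ φ M) he he'
    have e1 : a.act.left ≫ φ.left = (snd G X).left ≫ φ.left := hφ.left
    have hq : a.act.left ⁻¹ᵁ W' ⊓ (snd G X).left ⁻¹ᵁ W ≤ ((snd G X).left ≫ φ.left) ⁻¹ᵁ (U ⊓ U') := by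
      intro z hz
      refine ⟨hW hz.2, ?_⟩
      change ((snd G X).left ≫ φ.left) z ∈ U'
      rw [← e1]
      exact hW' hz.1
    refine ⟨pb ((snd G X).left ≫ φ.left) _ hq c, ?_⟩
    change pb (totAct φ M a hφ).act.left _ (GLinSh.liftOpen_le_act a (totπ φ M) _ (totAct_π a hφ))
        (totCoord e' hW') =
      pb (G ◁ totπ φ M).left (GLinSh.liftOpen a (totπ φ M) W W')
          (GLinSh.liftOpen_le_base a (totπ φ M)) (pb ((snd G X).left ≫ φ.left) _ hq c) *
        pb (snd G (tot φ M)).left (GLinSh.liftOpen a (totπ φ M) W W')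
          (GLinSh.liftOpen_le_snd a (totπ φ M)) (totCoord e hW)
    have e2 : ((snd G (tot φ M)).left ≫ totρ φ M) ≫ proj M =
        (G ◁ totπ φ M).left ≫ (snd G X).left ≫ φ.left := by
      rw [Category.assoc, ← tot_cond, ← Over.comp_left_assoc, ← Over.comp_left_assoc, whiskerLeft_snd]
    have hA : GLinSh.liftOpen a (totπ φ M) W W' ≤
        ((snd G (tot φ M)).left ≫ totρ φ M) ⁻¹ᵁ (proj M ⁻¹ᵁ U) :=
      (GLinSh.liftOpen_le_snd a (totπ φ M)).trans
        (Scheme.Hom.preimage_mono (snd G (tot φ M)).left (le_ρ hW))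
    have hB : GLinSh.liftOpen a (totπ φ M) W W' ≤
        (((snd G (tot φ M)).left ≫ totρ φ M) ≫ proj M) ⁻¹ᵁ (U ⊓ U') := by
      rw [e2]
      exact (GLinSh.liftOpen_le_base a (totπ φ M)).trans (Scheme.Hom.preimage_mono (G ◁ totπ φ M).left hq)
    have hC : GLinSh.liftOpen a (totπ φ M) W W' ≤
        ((snd G (tot φ M)).left ≫ totρ φ M) ⁻¹ᵁ (proj M ⁻¹ᵁ U') := fun z hz => (hB hz).2
    rw [totCoord, totCoord, pb_pb, pb_pb, pb_pb, pb_congr (totAct_ρ a hφ) _ hC]
    refine (hpb _ hA hC hB).trans ?_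
    rw [pb_congr e2]

variable {φ M}

include hM in
lemma exists_section {N : ℕ} (t : Γ(CohB1.tensorPow M N, ⊤)) :
    ∃ F : Γ((Groth.SymAlg.symQC M).spec, ⊤), ∀ (U : Y.left.Opens) (e : Γ(M, U)), IsAffineOpen U →
      Gen M U e → ∀ c : Γ(Y.left, U), Groth.PicAux.res _ le_top t = c • powSec e N →
        resX (Groth.SymAlg.symQC M).spec le_top F = (proj M).app U c * coordOf M U e ^ N := by
  let I := {p : Σ U : Y.left.Opens, Γ(M, U) // IsAffineOpen p.1 ∧ Gen M p.1 p.2}
  choose c₀ hc₀ using fun i : I => (i.2.2.pow N).exists_coeff le_rfl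
    (Groth.PicAux.res (CohB1.tensorPow M N) le_top t)
  simp only [Groth.PicAux.res_self] at hc₀
  have hcov : (⊤ : (Groth.SymAlg.symQC M).spec.Opens) ≤ ⨆ i : I, proj M ⁻¹ᵁ i.1.1 := by
    intro v _
    obtain ⟨U, e, hU, hx, he⟩ := Groth.PicAux.exists_affine_gen_mem hM (proj M v)
    exact Opens.mem_iSup.mpr ⟨⟨⟨U, e⟩, hU, he⟩, hx⟩
  let sf : ∀ i : I, Γ((Groth.SymAlg.symQC M).spec, proj M ⁻¹ᵁ i.1.1) := fun i =>
    (proj M).app i.1.1 (c₀ i) * coordOf M i.1.1 i.1.2 ^ N
  have compat : ∀ i j : I, resX (Groth.SymAlg.symQC M).spec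
        (inf_le_left : proj M ⁻¹ᵁ i.1.1 ⊓ proj M ⁻¹ᵁ j.1.1 ≤ _) (sf i) =
      resX (Groth.SymAlg.symQC M).spec inf_le_right (sf j) := by
    intro i j
    set D := i.1.1 ⊓ j.1.1 with hD
    obtain ⟨u, hu⟩ := (i.2.2.res (inf_le_left : D ≤ i.1.1)).exists_unit
      (j.2.2.res (inf_le_right : D ≤ j.1.1))
    have hci : resX Y.left (inf_le_left : D ≤ i.1.1) (c₀ i) =
        resX Y.left (inf_le_right : D ≤ j.1.1) (c₀ j) * (u : Γ(Y.left, D)) ^ N := by
      have h1 := congrArg (Groth.PicAux.res (CohB1.tensorPow M N) (inf_le_left : D ≤ i.1.1)) (hc₀ i)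
      have h2 := congrArg (Groth.PicAux.res (CohB1.tensorPow M N) (inf_le_right : D ≤ j.1.1)) (hc₀ j)
      simp only [Groth.PicAux.res_res, Groth.PicAux.res_smul, Groth.PicAux.res_powSec] at h1 h2
      rw [hu, Groth.PicAux.powSec_smul, ← mul_smul] at h2
      exact ((i.2.2.res (inf_le_left : D ≤ i.1.1)).pow N).smul_inj le_rfl
        (by simpa using h1.symm.trans h2)
    have hp : ∀ (k : I) (hk : D ≤ k.1.1), resX (Groth.SymAlg.symQC M).spec ((proj M).preimage_mono hk)
        ((proj M).app k.1.1 (c₀ k)) = (proj M).app D (resX Y.left hk (c₀ k)) := by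
      intro k hk
      rw [pb_app, res_pb, pb_app, pb_res]
    change resX (Groth.SymAlg.symQC M).spec ((proj M).preimage_mono (inf_le_left : D ≤ i.1.1)) (sf i) =
      resX (Groth.SymAlg.symQC M).spec ((proj M).preimage_mono (inf_le_right : D ≤ j.1.1)) (sf j)
    simp only [sf, map_mul, map_pow]
    rw [hp i inf_le_left, hp j inf_le_right, hci]
    have hcoord' : resX (Groth.SymAlg.symQC M).spec ((proj M).preimage_mono (inf_le_right : D ≤ j.1.1))
        (coordOf M j.1.1 j.1.2) = (proj M).app D (u : Γ(Y.left, D)) *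
          resX (Groth.SymAlg.symQC M).spec ((proj M).preimage_mono (inf_le_left : D ≤ i.1.1))
            (coordOf M i.1.1 i.1.2) := by
      have h := congrArg (coordOf M D) hu
      rw [← res_coordOf, coordOf_smul, ← res_coordOf] at h
      exact h
    rw [hcoord', map_mul, map_pow, mul_pow]
    ring
  obtain ⟨F, hF, -⟩ := TopCat.Sheaf.existsUnique_gluing' (Groth.SymAlg.symQC M).spec.sheaf
    (fun i : I => proj M ⁻¹ᵁ i.1.1) ⊤ (fun _ => homOfLE le_top) hcov sf compat
  refine ⟨F, fun U e hU he c hc => ?_⟩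
  have hF' := hF ⟨⟨U, e⟩, hU, he⟩
  refine hF'.trans ?_
  have hc' : c₀ ⟨⟨U, e⟩, hU, he⟩ = c := by
    have := (hc₀ ⟨⟨U, e⟩, hU, he⟩).symm.trans hc
    exact (he.pow N).smul_inj le_rfl (by simpa using this)
  simp only [sf, hc']

include hM in
lemma exists_invSection {N : ℕ} (s : Coh.structureModule Y.left ⟶ CohB1.tensorPow M N) (hN : 1 ≤ N) :
    ∃ f : Γ((bundle φ M hM a hφ).V.left, ⊤), (bundle φ M hM a hφ).IsInvSection N f ∧
      GLinSh.nonvanishing (bundle φ M hM a hφ).π f =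
        (φ.left ⁻¹ᵁ CohB1.genLocus _ s : X.left.Opens) := by
  obtain ⟨F, hF⟩ := exists_section hM (gsec s)
  refine ⟨(totρ φ M).appTop F, ⟨?_, ?_⟩, ?_⟩
  · intro W y hy
    obtain ⟨U, e, hW, hU, he, rfl⟩ := hy
    obtain ⟨c, hc⟩ := (he.pow N).exists_coeff le_rfl (Groth.PicAux.res _ le_top (gsec s))
    rw [Groth.PicAux.res_self] at hc
    refine ⟨pb φ.left W hW c, ?_⟩
    change resX (tot φ M).left le_top ((totρ φ M).appTop F) =
      (totπ φ M).left.app W (pb φ.left W hW c) * totCoord e hW ^ N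
    rw [show (totρ φ M).appTop F = pb (totρ φ M) ⊤ le_top F by
      simp [pb, Scheme.Hom.appTop, Scheme.Hom.app_eq_appLE], res_pb, pb_app, pb_pb,
      ← pb_res (totρ φ M) (le_top : proj M ⁻¹ᵁ U ≤ ⊤) (le_ρ hW), hF U e hU he c hc, map_mul, map_pow,
      pb_app, pb_pb, totCoord]
    congr 1
    exact pb_congr (tot_cond φ M).symm _ _ _
  · change (totAct φ M a hφ).act.left.appTop ((totρ φ M).appTop F) =
      (snd G (tot φ M)).left.appTop ((totρ φ M).appTop F)
    rw [← CommRingCat.comp_apply, ← CommRingCat.comp_apply, ← Scheme.Hom.comp_appTop,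
      ← Scheme.Hom.comp_appTop, totAct_ρ]
  · change (totπ φ M).left.base '' _ = _
    have key : ∀ v : (tot φ M).left, ∀ (U : Y.left.Opens) (e : Γ(M, U)), IsAffineOpen U → Gen M U e →
        proj M (totρ φ M v) ∈ U →
        (v ∈ (tot φ M).left.basicOpen ((totρ φ M).appTop F) ↔
          proj M (totρ φ M v) ∈ CohB1.genLocus _ s ∧
            totρ φ M v ∈ (Groth.SymAlg.symQC M).spec.basicOpen (coordOf M U e)) := by
      intro v U e hU he hv
      obtain ⟨c, hc⟩ := (he.pow N).exists_coeff le_rfl (Groth.PicAux.res _ le_top (gsec s))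
      rw [Groth.PicAux.res_self] at hc
      have hb : (Groth.SymAlg.symQC M).spec.basicOpen F ⊓ proj M ⁻¹ᵁ U =
          proj M ⁻¹ᵁ Y.left.basicOpen c ⊓ (Groth.SymAlg.symQC M).spec.basicOpen (coordOf M U e) := by
        rw [inf_comm, ← Scheme.basicOpen_res _ F (homOfLE (le_top : proj M ⁻¹ᵁ U ≤ ⊤)).op]
        change Scheme.basicOpen _ (resX (Groth.SymAlg.symQC M).spec le_top F) = _
        rw [hF U e hU he c hc, Scheme.basicOpen_mul, (Groth.SymAlg.symQC M).spec.basicOpen_pow _ hN, Scheme.preimage_basicOpen]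
      rw [← Scheme.preimage_basicOpen_top, Scheme.Hom.mem_preimage,
        ← Groth.PicAux.genLocus_inf_eq_basicOpen (he.pow N) hc] at *
      constructor
      · intro h
        have h' := (hb.le ⟨h, hv⟩)
        exact ⟨h'.1.1, h'.2⟩
      · rintro ⟨h₁, h₂⟩
        exact (hb.ge ⟨⟨h₁, hv⟩, h₂⟩).1
    ext x
    constructor
    · rintro ⟨v, hv, rfl⟩
      obtain ⟨U, e, hU, hx, he⟩ := Groth.PicAux.exists_affine_gen_mem hM (proj M (totρ φ M v))
      have := ((key v U e hU he hx).1 hv).1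
      change φ.left ((totπ φ M).left v) ∈ CohB1.genLocus _ s
      rwa [← Scheme.Hom.comp_apply, tot_cond, Scheme.Hom.comp_apply]
    · intro hx
      obtain ⟨U, e, hU, hxU, he⟩ := Groth.PicAux.exists_affine_gen_mem hM (φ.left x)
      obtain ⟨w, hw, hw'⟩ := exists_point M hU he hxU
      obtain ⟨v, hv₁, hv₂⟩ := Scheme.Pullback.exists_preimage_pullback (f := φ.left) (g := proj M) x w hw.symm
      have hv₂' : totρ φ M v = w := hv₂
      refine ⟨v, ?_, hv₁⟩
      refine (key v U e hU he (by rw [hv₂', hw]; exact hxU)).2 ?_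
      rw [hv₂', hw]
      exact ⟨hx, hw'⟩

end Groth.GitLin
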