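/- Orbits and a geometric quotient by a normal subgroup (helper91). -/
import Groth.Prelude.Def_W4bk4git07Quot
import Groth.Agent.AlgGrp2.Basic
import Mathlib

set_option autoImplicit false

universe u

open CategoryTheory CategoryTheory.Limits MonoidalCategory CartesianMonoidalCategory MonObj
  AlgebraicGeometry

noncomputable section

namespace Groth.GitLin

variable {S : Scheme.{u}}

/-- Points with a common image are the images of a point of some object over `S`. -/
lemma exists_common {A B C : Over S} (f : A ⟶ C) (g : B ⟶ C) (x : A.left) (y : B.left)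
    (h : f.left x = g.left y) :
    ∃ (W : Over S) (u : W ⟶ A) (v : W ⟶ B) (w : W.left),
      u ≫ f = v ≫ g ∧ u.left w = x ∧ v.left w = y := by
  obtain ⟨w, hx, hy⟩ := Scheme.Pullback.exists_preimage_pullback (f := f.left) (g := g.left) x y h
  refine ⟨Over.mk (pullback.fst f.left g.left ≫ A.hom), Over.homMk (pullback.fst _ _),
    Over.homMk (pullback.snd f.left g.left) ?_, w, Over.OverMorphism.ext pullback.condition, hx, hy⟩
  change pullback.snd f.left g.left ≫ B.hom = pullback.fst f.left g.left ≫ A.hom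
  rw [← Over.w g, ← Over.w f, pullback.condition_assoc]

variable {H Q N X Y : Over S} [GrpObj H] [GrpObj Q] [GrpObj N]

/-- The orbit of a point in `X` is the preimage of the orbit of its image. -/
theorem range_psi_eq_preimage (q : H ⟶ Q) [Surjective q.left] (i : N ⟶ H) (a : AlgGrp.Action H X)
    (aN : AlgGrp.Action N X) (haN : aN.act = (i ▷ X) ≫ a.act) (π : X ⟶ Y)
    (hinv : GIT.IsInvariant aN π) (horb : Function.Surjective (GIT.PsiY aN π hinv).base)
    (aQ : AlgGrp.Action Q Y) (hequiv : (q ⊗ₘ π) ≫ aQ.act = a.act ≫ π) {T : Over S} (f : T ⟶ X) :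
    Set.range (GIT.psi a f).left.base =
      (π ▷ T).left.base ⁻¹' Set.range (GIT.psi aQ (f ≫ π)).left.base := by
  have hnat : (q ▷ T) ≫ GIT.psi aQ (f ≫ π) = GIT.psi a f ≫ (π ▷ T) := by
    apply CartesianMonoidalCategory.hom_ext
    · simp only [GIT.psi, Category.assoc, lift_fst, lift_fst_assoc, whiskerRight_fst]
      rw [← hequiv, ← Category.assoc, ← MonoidalCategory.tensorHom_def, ← Category.assoc (H ◁ f)]
      congr 1
      apply CartesianMonoidalCategory.hom_ext <;> simp
    · simp [GIT.psi]
  ext p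
  constructor
  · rintro ⟨w, rfl⟩
    refine ⟨(q ▷ T).left w, ?_⟩
    rw [← Scheme.Hom.comp_apply, ← Over.comp_left, hnat]
    rfl
  · rintro ⟨w, hw⟩
    have : Surjective (q ▷ T).left :=
      MorphismProperty.of_isPullback (P := @Surjective)
        (Groth.AlgGrp2.isPullback_whiskerRight_fst T q).flip inferInstance
    obtain ⟨w', hw'⟩ := (q ▷ T).left.surjective w
    have hp : (π ▷ T).left p = (GIT.psi a f ≫ (π ▷ T)).left w' := by
      rw [← hw, ← hw', ← hnat]
      rfl
    obtain ⟨W, u, v, r, huv, hu, hv⟩ := exists_common (π ▷ T) (GIT.psi a f ≫ (π ▷ T)) p w' hp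
    let x₁ : W ⟶ X := u ≫ fst X T
    let x₂ : W ⟶ X := v ≫ GIT.psi a f ≫ fst X T
    have hx : x₁.left ≫ π.left = x₂.left ≫ π.left := by
      have := congrArg (fun z : W ⟶ Y ⊗ T => (z ≫ fst Y T).left) huv
      simpa [x₁, x₂] using this
    obtain ⟨g₀, hg₀⟩ := horb (pullback.lift x₁.left x₂.left hx r)
    obtain ⟨P, hP1, hP2⟩ := Scheme.Pullback.exists_preimage_pullback
      (f := GIT.PsiY aN π hinv) (g := pullback.lift x₁.left x₂.left hx) g₀ r hg₀
    set p₁ := pullback.fst (GIT.PsiY aN π hinv) (pullback.lift x₁.left x₂.left hx)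
    set p₂ := pullback.snd (GIT.PsiY aN π hinv) (pullback.lift x₁.left x₂.left hx)
    have hc : p₁ ≫ GIT.PsiY aN π hinv = p₂ ≫ pullback.lift x₁.left x₂.left hx := pullback.condition
    have c1 : p₁ ≫ aN.act.left = p₂ ≫ x₁.left := by
      have := congrArg (· ≫ pullback.fst _ _) hc
      simp only [Category.assoc] at this
      exact ((congrArg (p₁ ≫ ·) (pullback.lift_fst _ _ _).symm).trans this).trans
        (congrArg (p₂ ≫ ·) (pullback.lift_fst _ _ _))
    have c2 : p₁ ≫ (snd N X).left = p₂ ≫ x₂.left := by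
      have := congrArg (· ≫ pullback.snd _ _) hc
      simp only [Category.assoc] at this
      exact ((congrArg (p₁ ≫ ·) (pullback.lift_snd _ _ _).symm).trans this).trans
        (congrArg (p₂ ≫ ·) (pullback.lift_snd _ _ _))
    let W' : Over S := Over.mk (p₂ ≫ W.hom)
    let s : W' ⟶ W := Over.homMk p₂
    let m : W' ⟶ N ⊗ X := Over.homMk p₁ (by
      change p₁ ≫ _ = p₂ ≫ W.hom
      rw [← Over.w (snd N X), ← Category.assoc, c2, Category.assoc, Over.w x₂])
    have e1 : m ≫ aN.act = s ≫ x₁ := Over.OverMorphism.ext c1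
    have e2 : m ≫ snd N X = s ≫ x₂ := Over.OverMorphism.ext c2
    have et : u ≫ snd X T = v ≫ snd H T := by
      simpa [GIT.psi] using congrArg (· ≫ snd Y T) huv
    let g : W' ⟶ H := (m ≫ fst N X ≫ i) * (s ≫ v ≫ fst H T)
    have key : lift g (s ≫ u ≫ snd X T) ≫ GIT.psi a f = s ≫ u := by
      apply CartesianMonoidalCategory.hom_ext
      · simp only [GIT.psi, Category.assoc, lift_fst]
        rw [lift_whiskerLeft_assoc, Groth.AlgGrp2.lift_mul_act]
        change _ = s ≫ x₁
        rw [← e1, haN]
        have h2 : lift (s ≫ v ≫ fst H T) ((s ≫ u ≫ snd X T) ≫ f) ≫ a.act = m ≫ snd N X := by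
          rw [e2, et]
          simp only [x₂, GIT.psi, Category.assoc, lift_fst, ← comp_lift_assoc]
          congr 2
        have h3 : lift (fst N X ≫ i) (snd N X) = i ▷ X := by
          apply CartesianMonoidalCategory.hom_ext <;> simp
        rw [h2, ← comp_lift_assoc, h3]
      · simp [GIT.psi]
    refine ⟨(lift g (s ≫ u ≫ snd X T)).left P, ?_⟩
    rw [← Scheme.Hom.comp_apply, ← Over.comp_left, key, Over.comp_left, Scheme.Hom.comp_apply]
    change u.left (p₂ P) = p
    rw [hP2, hu]

/-- Base change of a universally submersive quotient map along the product with `T`. -/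
theorem isQuotientMap_whiskerRight (π : X ⟶ Y) (h : GIT.IsUnivSubmersive π.left) (T : Over S) :
    Topology.IsQuotientMap (π ▷ T).left.base :=
  h _ _ _ (Groth.AlgGrp2.isPullback_whiskerRight_fst T π)

end Groth.GitLin
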