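/- Orbits of geometric points for a geometric quotient with separated target are closed (helper91). -/
import Groth.Prelude.Def_W4bk4git07Quot
import Mathlib

set_option autoImplicit false

universe u

open CategoryTheory CategoryTheory.Limits MonoidalCategory CartesianMonoidalCategory MonObj
  AlgebraicGeometry

namespace Groth.GitLin

variable {S : Scheme.{u}} {G X Y : Over S} [GrpObj G] {a : AlgGrp.Action G X} {φ : X ⟶ Y}

/-- For an invariant morphism with surjective `PsiY` to a separated target every orbit is closed. -/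
theorem isClosed_range_psi (hφ : GIT.IsInvariant a φ) [IsSeparated Y.hom]
    (h : Function.Surjective (GIT.PsiY a φ hφ).base) {T : Over S} (f : T ⟶ X) :
    IsClosed (Set.range (GIT.psi a f).left.base) := by
  let α : X ⊗ T ⟶ Y := fst X T ≫ φ
  let β : X ⊗ T ⟶ Y := snd X T ≫ f ≫ φ
  let r : (X ⊗ T).left ⟶ pullback Y.hom Y.hom :=
    pullback.lift α.left β.left (by rw [Over.w α, Over.w β])
  have hΔ : IsClosedImmersion (pullback.diagonal Y.hom) := inferInstance
  suffices Set.range (GIT.psi a f).left.base = r.base ⁻¹' Set.range (pullback.diagonal Y.hom).base by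
    rw [this]
    exact (pullback.diagonal Y.hom).isClosedEmbedding.isClosed_range.preimage r.continuous
  have h1 : GIT.psi a f ≫ α = GIT.psi a f ≫ β := by
    simp only [GIT.psi, α, β, lift_fst_assoc, lift_snd_assoc]
    rw [Category.assoc, show a.act ≫ φ = snd G X ≫ φ from hφ, whiskerLeft_snd_assoc]
  ext p
  constructor
  · rintro ⟨w, rfl⟩
    refine ⟨((GIT.psi a f) ≫ α).left w, ?_⟩
    have e : (GIT.psi a f).left ≫ r = (GIT.psi a f ≫ α).left ≫ pullback.diagonal Y.hom := by
      apply pullback.hom_ext
      · rw [Category.assoc, pullback.lift_fst, Category.assoc, pullback.diagonal_fst, Category.comp_id]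
        exact (Over.comp_left _ _ _ _ _).symm
      · rw [Category.assoc, pullback.lift_snd, Category.assoc, pullback.diagonal_snd, Category.comp_id,
          ← Over.comp_left, h1]
    exact congr($(e) w).symm
  · intro hp
    obtain ⟨y, hy⟩ := hp
    let W := pullback r (pullback.diagonal Y.hom)
    obtain ⟨q, hq, -⟩ := Scheme.Pullback.exists_preimage_pullback
      (f := r) (g := pullback.diagonal Y.hom) p y hy.symm
    let i : W ⟶ (X ⊗ T).left := pullback.fst _ _
    have hab : i ≫ α.left = i ≫ β.left := by
      have hc := pullback.condition (f := r) (g := pullback.diagonal Y.hom)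
      have e1 := congrArg (· ≫ pullback.fst Y.hom Y.hom) hc
      have e2 := congrArg (· ≫ pullback.snd Y.hom Y.hom) hc
      simp only [r, Category.assoc, pullback.lift_fst, pullback.lift_snd, pullback.diagonal_fst,
        pullback.diagonal_snd, Category.comp_id] at e1 e2
      exact e1.trans e2.symm
    let b : W ⟶ pullback φ.left φ.left := pullback.lift (i ≫ (fst X T).left)
      (i ≫ (snd X T ≫ f).left) (by
        simpa [α, β, Category.assoc] using hab)
    obtain ⟨g₀, hg₀⟩ := h (b q)
    obtain ⟨P, hP1, hP2⟩ := Scheme.Pullback.exists_preimage_pullback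
      (f := GIT.PsiY a φ hφ) (g := b) g₀ q hg₀
    set p₁ := pullback.fst (GIT.PsiY a φ hφ) b
    set p₂ := pullback.snd (GIT.PsiY a φ hφ) b
    have hc : p₁ ≫ GIT.PsiY a φ hφ = p₂ ≫ b := pullback.condition
    have c1 : p₁ ≫ a.act.left = p₂ ≫ i ≫ (fst X T).left := by
      have := congrArg (· ≫ pullback.fst _ _) hc
      simp only [Category.assoc] at this
      exact ((congrArg (p₁ ≫ ·) (pullback.lift_fst _ _ _).symm).trans this).trans
        (congrArg (p₂ ≫ ·) (pullback.lift_fst _ _ _))
    have c2 : p₁ ≫ (snd G X).left = p₂ ≫ i ≫ (snd X T ≫ f).left := by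
      have := congrArg (· ≫ pullback.snd _ _) hc
      simp only [Category.assoc] at this
      exact ((congrArg (p₁ ≫ ·) (pullback.lift_snd _ _ _).symm).trans this).trans
        (congrArg (p₂ ≫ ·) (pullback.lift_snd _ _ _))
    let PT : Over S := Over.mk (p₁ ≫ (G ⊗ X).hom)
    let u : PT ⟶ G ⊗ X := Over.homMk p₁
    have hT : (p₂ ≫ i ≫ (snd X T).left) ≫ T.hom = p₁ ≫ (G ⊗ X).hom := by
      rw [← Over.w (snd G X), ← Category.assoc p₁, c2, Over.comp_left]
      simp only [Category.assoc]
      rw [Over.w f]
    let t : PT ⟶ T := Over.homMk (p₂ ≫ i ≫ (snd X T).left) hT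
    have hfst : (p₂ ≫ i) ≫ (X ⊗ T).hom = p₁ ≫ (G ⊗ X).hom := by
      rw [← hT, Category.assoc, ← Over.w (snd X T)]
      simp
    let m : PT ⟶ X ⊗ T := Over.homMk (p₂ ≫ i) hfst
    have hu : u = lift (u ≫ fst G X) (t ≫ f) := by
      apply CartesianMonoidalCategory.hom_ext
      · simp
      · rw [lift_snd]
        apply Over.OverMorphism.ext
        simpa [u, t, Category.assoc] using c2
    have key : lift (u ≫ fst G X) t ≫ GIT.psi a f = m := by
      apply CartesianMonoidalCategory.hom_ext
      · simp only [GIT.psi, Category.assoc, lift_fst]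
        rw [lift_whiskerLeft_assoc, ← hu]
        apply Over.OverMorphism.ext
        simpa [u, m, Category.assoc] using c1
      · simp only [GIT.psi, Category.assoc, lift_snd]
        apply Over.OverMorphism.ext
        simp [t, m]
    refine ⟨(lift (u ≫ fst G X) t).left P, ?_⟩
    have := congr($(congrArg (fun z : PT ⟶ X ⊗ T => z.left) key) P)
    simp only [Over.comp_left, Scheme.Hom.comp_apply] at this
    refine this.trans ?_
    change i (p₂ P) = p
    rw [hP2]
    exact hq

end Groth.GitLin
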